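import Groth.Agent.Lib.WeakAss18.Basic
import Groth.Agent.Lib.ModM1.Push
import Mathlib.AlgebraicGeometry.Morphisms.Finite
import Mathlib.AlgebraicGeometry.Morphisms.QuasiFinite

/-!
Weakly associated points of direct images.
-/

universe u

open CategoryTheory Limits AlgebraicGeometry TopologicalSpace Opposite

set_option backward.isDefEq.respectTransparency false

namespace Groth.Agent.WA

variable {X S : Scheme.{u}}

section general

variable {F : X.Modules}

/-- A criterion for being weakly associated in terms of sections over an affine open. -/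
theorem isWeakAssPoint_of_section {U : X.Opens} (hU : IsAffineOpen U) {x : X} (hx : x ∈ U) (t : Γ(F, U))
    (ht : F.presheaf.germ U x hx t ≠ 0)
    (h : ∀ b : Γ(X, U), ¬ IsUnit (X.presheaf.germ U x hx b) →
      ∃ k : ℕ, F.presheaf.germ U x hx (b ^ k • t) = 0) :
    Curv2.IsWeakAssPoint F x := by
  let := TopCat.Presheaf.algebra_section_stalk X.presheaf (⟨x, hx⟩ : U)
  have := hU.isLocalization_stalk ⟨x, hx⟩
  refine ⟨F.presheaf.germ U x hx t, le_antisymm ?_ fun z hz => ?_⟩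
  · refine (IsLocalRing.maximalIdeal.isMaximal _).isPrime.radical_le_iff.mpr (IsLocalRing.le_maximalIdeal fun h => ht ?_)
    have h1 : (1 : X.presheaf.stalk x) ∈ annStalk (F.presheaf.germ U x hx t) := (Ideal.eq_top_iff_one _).mp h
    rwa [mem_annStalk, one_smul] at h1
  · obtain ⟨⟨a, c⟩, hac⟩ := IsLocalization.surj (hU.primeIdealOf ⟨x, hx⟩).asIdeal.primeCompl z
    have hac : z * X.presheaf.germ U x hx c = X.presheaf.germ U x hx a := hac
    have hcu : IsUnit (X.presheaf.germ U x hx c) := (M1.isUnit_germ_iff hU hx c).mpr c.2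
    obtain ⟨k, hk⟩ := h a fun ha => by
      rw [← hac, IsUnit.mul_iff] at ha
      exact (IsLocalRing.mem_maximalIdeal _).mp hz ha.1
    refine ⟨k, (mem_annStalk _ _).mpr ?_⟩
    rw [M1.germ_smul, map_pow, ← hac, mul_pow, mul_comm, mul_smul] at hk
    obtain ⟨w, hw⟩ := hcu.pow k
    rwa [← hw, ← Units.smul_def, smul_eq_zero_iff_eq] at hk

/-- The point of an affine open cut out by a prime ideal. -/
theorem exists_point {U : X.Opens} (hU : IsAffineOpen U) (q : Ideal Γ(X, U)) [q.IsPrime] :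
    ∃ (x : X) (hx : x ∈ U), ∀ a : Γ(X, U), IsUnit (X.presheaf.germ U x hx a) ↔ a ∉ q := by
  let y := hU.fromSpec ⟨q, inferInstance⟩
  have hy : y ∈ U := hU.range_fromSpec.le ⟨_, rfl⟩
  have hP : hU.primeIdealOf ⟨y, hy⟩ = ⟨q, inferInstance⟩ :=
    hU.fromSpec.isOpenEmbedding.injective (hU.fromSpec_primeIdealOf ⟨y, hy⟩)
  refine ⟨y, hy, fun a => ?_⟩
  rw [M1.isUnit_germ_iff hU hy a, hP]
  rfl

theorem germ_zero_of_smul {U : X.Opens} {x : X} (hx : x ∈ U) (r : Γ(X, U)) (t : Γ(F, U))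
    (hr : IsUnit (X.presheaf.germ U x hx r)) (h : r • t = 0) : F.presheaf.germ U x hx t = 0 := by
  have h1 := congrArg (F.presheaf.germ U x hx) h
  rw [M1.germ_smul, map_zero] at h1
  obtain ⟨w, hw⟩ := hr
  rwa [← hw, ← Units.smul_def, smul_eq_zero_iff_eq] at h1

/-- Specialisation is detected on functions of an affine open. -/
theorem specializes_of_isUnit {U : X.Opens} (hU : IsAffineOpen U) {x y : X} (hx : x ∈ U) (hy : y ∈ U)
    (h : ∀ a : Γ(X, U), IsUnit (X.presheaf.germ U x hx a) → IsUnit (X.presheaf.germ U y hy a)) : y ⤳ x := by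
  refine specializes_iff_forall_open.mpr fun W hW hxW => ?_
  obtain ⟨a, haW, hxa⟩ := hU.exists_basicOpen_le (V := ⟨W, hW⟩) ⟨x, hxW⟩ hx
  exact haW ((X.mem_basicOpen a y hy).mpr (h a ((X.mem_basicOpen a x hx).mp hxa)))

end general

section push

variable (f : X ⟶ S)

theorem isUnit_germ_app {V : S.Opens} {x : X} (hx : f x ∈ V) (b : Γ(S, V)) :
    IsUnit (X.presheaf.germ (f ⁻¹ᵁ V) x hx (f.app V b)) ↔ IsUnit (S.presheaf.germ V (f x) hx b) := by
  rw [← X.mem_basicOpen _ x hx, ← S.mem_basicOpen _ (f x) hx, ← Scheme.preimage_basicOpen]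
  rfl

variable (F : X.Modules)

theorem push_smul {V : S.Opens} (b : Γ(S, V)) (t : Γ((Scheme.Modules.pushforward f).obj F, V)) :
    (show Γ(F, f ⁻¹ᵁ V) from (b • t : Γ((Scheme.Modules.pushforward f).obj F, V))) =
      f.app V b • (show Γ(F, f ⁻¹ᵁ V) from t) := rfl

theorem germ_push_eq_zero {V : S.Opens} {x : X} (hx : f x ∈ V) (t : Γ((Scheme.Modules.pushforward f).obj F, V))
    (h : ((Scheme.Modules.pushforward f).obj F).presheaf.germ V (f x) hx t = 0) :
    F.presheaf.germ (f ⁻¹ᵁ V) x hx (show Γ(F, f ⁻¹ᵁ V) from t) = 0 := by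
  obtain ⟨W, hW, i, i', e⟩ := ((Scheme.Modules.pushforward f).obj F).presheaf.germ_eq (f x) hx hx t 0
    (h.trans (map_zero _).symm)
  rw [map_zero] at e
  rw [← F.presheaf.germ_res_apply ((Opens.map f.base).map i) x (show x ∈ f ⁻¹ᵁ W from hW) (show Γ(F, f ⁻¹ᵁ V) from t)]
  exact (congrArg (F.presheaf.germ (f ⁻¹ᵁ W) x hW)
    (show F.presheaf.map ((Opens.map f.base).map i).op (show Γ(F, f ⁻¹ᵁ V) from t) = 0 from e)).trans (map_zero _)

/-- A section of the direct image with non-zero germ has a non-zero germ at some point over a generisation. -/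
theorem exists_point_germ_ne_zero [QuasiCompact f] [Coh.IsQCoh F] {V : S.Opens} (hV : IsAffineOpen V) {s : S}
    (hs : s ∈ V) (t : Γ((Scheme.Modules.pushforward f).obj F, V))
    (ht : ((Scheme.Modules.pushforward f).obj F).presheaf.germ V s hs t ≠ 0) :
    ∃ (x : X) (hx : f x ∈ V), f x ⤳ s ∧ F.presheaf.germ (f ⁻¹ᵁ V) x hx (show Γ(F, f ⁻¹ᵁ V) from t) ≠ 0 := by
  classical
  by_contra hall
  push Not at hall
  have key : ∀ x : (f ⁻¹ᵁ V : X.Opens), ∃ (U : X.Opens) (_ : (x : X) ∈ U) (hUV : U ≤ f ⁻¹ᵁ V) (b : Γ(S, V)),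
      IsUnit (S.presheaf.germ V s hs b) ∧
        M1.ores hUV (f.app V b) • M1.mres F hUV (show Γ(F, f ⁻¹ᵁ V) from t) = 0 := by
    rintro ⟨x, hxV⟩
    obtain ⟨U, hU, hxU, hUV⟩ := exists_isAffineOpen_mem_and_subset (U := f ⁻¹ᵁ V) hxV
    let u : Γ(F, U) := M1.mres F hUV (show Γ(F, f ⁻¹ᵁ V) from t)
    let M : Submonoid Γ(X, U) := ((IsUnit.submonoid _).comap (S.presheaf.germ V s hs).hom).map
      ((M1.ores hUV).hom.comp (f.app V).hom)
    refine ⟨U, hxU, hUV, ?_⟩
    by_contra hne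
    push Not at hne
    let J : Ideal Γ(X, U) := LinearMap.ker (LinearMap.toSpanSingleton Γ(X, U) Γ(F, U) u)
    have hJ : ∀ a : Γ(X, U), a ∈ J ↔ a • u = 0 := fun a => by simp [J, LinearMap.mem_ker]
    have hdisj : Disjoint (J : Set Γ(X, U)) (M : Set Γ(X, U)) := by
      rw [Set.disjoint_left]
      rintro _ ha ⟨b, hb, rfl⟩
      exact hne b hb ((hJ _).mp ha)
    obtain ⟨q, hq, hJq, hqM⟩ := Ideal.exists_le_prime_disjoint J M hdisj
    obtain ⟨y, hy, hyu⟩ := exists_point hU q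
    have hys : f y ⤳ s := specializes_of_isUnit hV hs (hUV hy) fun b hb => by
      refine (isUnit_germ_app f (hUV hy) b).mp ?_
      rw [← X.presheaf.germ_res_apply (homOfLE hUV) y hy (f.app V b)]
      exact (hyu _).mpr (Set.disjoint_right.mp hqM ⟨b, hb, rfl⟩)
    have h0 := hall y (hUV hy) hys
    rw [← M1.germ_mres F hUV hy] at h0
    obtain ⟨r, hr, hr0⟩ := M1.exists_smul_eq_zero_of_germ_eq_zero F hU hy u h0
    exact (hyu r).mp hr (hJq ((hJ r).mpr hr0))
  choose U hxU hUV b hb hb0 using key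
  obtain ⟨T, hT⟩ := (QuasiCompact.isCompact_preimage (f := f) _ V.isOpen hV.isCompact).elim_finite_subcover
    (fun x : (f ⁻¹ᵁ V : X.Opens) => (U x : Set X)) (fun x => (U x).isOpen)
    (fun x hx => Set.mem_iUnion.mpr ⟨⟨x, hx⟩, hxU ⟨x, hx⟩⟩)
  let B := ∏ x ∈ T, b x
  have hB : IsUnit (S.presheaf.germ V s hs B) := by
    rw [map_prod]
    exact Submonoid.prod_mem (IsUnit.submonoid _) fun x _ => hb x
  refine ht (germ_zero_of_smul hs B t hB ?_)
  refine M1.section_ext (show Γ(F, f ⁻¹ᵁ V) from _) (show Γ(F, f ⁻¹ᵁ V) from 0) fun y hy => ?_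
  obtain ⟨x, hxT, hyx⟩ := Set.mem_iUnion₂.mp (hT hy)
  rw [push_smul, map_zero, ← M1.germ_mres F (hUV x) hyx, M1.mres_smul]
  obtain ⟨q, hq⟩ := Finset.dvd_prod_of_mem b hxT
  rw [show B = b x * q from hq, map_mul, map_mul, mul_comm, mul_smul, hb0 x, smul_zero, map_zero]

variable [Coh.IsQCoh F]

/-- Weakly associated points of the direct image are images of weakly associated points. -/
theorem exists_weakAss_of_push [QuasiCompact f] [QuasiSeparated f] (s : S)
    (hwa : Curv2.IsWeakAssPoint ((Scheme.Modules.pushforward f).obj F) s) :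
    ∃ x : X, f x = s ∧ Curv2.IsWeakAssPoint F x := by
  haveI := M1.isQCoh_push f (F := F) inferInstance
  let G := (Scheme.Modules.pushforward f).obj F
  obtain ⟨V, hV, hs, -⟩ := exists_isAffineOpen_mem_and_subset (U := (⊤ : S.Opens)) (x := s) trivial
  obtain ⟨m, hm⟩ := hwa
  obtain ⟨r, t, hr, hrt⟩ := M1.exists_germ_smul_eq G hV hs m
  have hne : G.presheaf.germ V s hs t ≠ 0 := fun h0 => by
    obtain ⟨w, hw⟩ := hr
    rw [h0, ← hw, ← Units.smul_def, smul_eq_zero_iff_eq] at hrt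
    exact ne_zero_of_radical_ann hm hrt
  obtain ⟨x, hx, hxs, htx⟩ := exists_point_germ_ne_zero f F hV hs t hne
  obtain ⟨U, hU, hxU, hUV⟩ := exists_isAffineOpen_mem_and_subset (U := f ⁻¹ᵁ V) hx
  rw [← M1.germ_mres F hUV hxU] at htx
  obtain ⟨y, hy, hyx, hwy, hty⟩ := exists_weakAss hU hxU _ htx
  rw [M1.germ_mres F hUV hy] at hty
  have hys : f y ⤳ s := (hyx.map f.continuous).trans hxs
  refine ⟨y, hys.antisymm (specializes_of_isUnit hV (hUV hy) hs fun a ha => ?_) |>.eq, hwy⟩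
  by_contra hu
  have hmem : S.presheaf.germ V s hs a ∈ (annStalk m).radical := by
    rw [hm]; exact (IsLocalRing.mem_maximalIdeal _).mpr hu
  obtain ⟨k, hk⟩ := hmem
  rw [mem_annStalk, ← map_pow] at hk
  have h0 : G.presheaf.germ V s hs (a ^ k • t) = 0 := by
    rw [M1.germ_smul, ← hrt, smul_comm, hk, smul_zero]
  have h1 := germ_push_eq_zero f F (hUV hy) _ (germ_zero_of_specializes hs (hUV hy) hys _ h0)
  rw [push_smul, M1.germ_smul] at h1
  have hu' : IsUnit (X.presheaf.germ (f ⁻¹ᵁ V) y (hUV hy) (f.app V (a ^ k))) := by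
    rw [map_pow, map_pow]
    exact ((isUnit_germ_app f (hUV hy) a).mpr ha).pow k
  obtain ⟨w, hw⟩ := hu'
  rw [← hw, ← Units.smul_def, smul_eq_zero_iff_eq] at h1
  exact hty h1

/-- For affine morphisms with locally noetherian source weakly associated points map to weakly associated points. -/
theorem isWeakAss_push_of_noetherian [IsAffineHom f] [IsLocallyNoetherian X] {x : X}
    (hwa : Curv2.IsWeakAssPoint F x) : Curv2.IsWeakAssPoint ((Scheme.Modules.pushforward f).obj F) (f x) := by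
  obtain ⟨V, hV, hs, -⟩ := exists_isAffineOpen_mem_and_subset (U := (⊤ : S.Opens)) (x := f x) trivial
  have hU := hV.preimage f
  obtain ⟨t, ht, hP⟩ := exists_section_weakAss hU (y := x) hs hwa
  refine isWeakAssPoint_of_section hV hs (show Γ((Scheme.Modules.pushforward f).obj F, V) from t)
    (fun h0 => ht (germ_push_eq_zero f F hs _ h0)) fun b hb => ?_
  have hmem : f.app V b ∈ (hU.primeIdealOf ⟨x, hs⟩).asIdeal := by
    by_contra hn
    exact hb ((isUnit_germ_app f hs b).mp ((M1.isUnit_germ_iff hU hs _).mpr hn))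
  rw [hP] at hmem
  obtain ⟨k, hk⟩ := hmem
  rw [Submodule.mem_colon_singleton, Submodule.mem_bot, ← map_pow] at hk
  exact ⟨k, (congrArg _ (show (b ^ k • (show Γ((Scheme.Modules.pushforward f).obj F, V) from t) :
    Γ((Scheme.Modules.pushforward f).obj F, V)) = 0 from hk)).trans (map_zero _)⟩

/-- For finite morphisms weakly associated points map to weakly associated points. -/
theorem isWeakAss_push_of_finite [IsFinite f] {x : X}
    (hwa : Curv2.IsWeakAssPoint F x) : Curv2.IsWeakAssPoint ((Scheme.Modules.pushforward f).obj F) (f x) := by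
  classical
  obtain ⟨V, hV, hs, -⟩ := exists_isAffineOpen_mem_and_subset (U := (⊤ : S.Opens)) (x := f x) trivial
  let A := Γ(X, f ⁻¹ᵁ V)
  have hU := hV.preimage f
  obtain ⟨m, hm⟩ := hwa
  obtain ⟨r, t, hr, hrt⟩ := M1.exists_germ_smul_eq F hU (show x ∈ f ⁻¹ᵁ V from hs) m
  have htne : F.presheaf.germ _ x hs t ≠ 0 := fun h0 => by
    obtain ⟨w, hw⟩ := hr
    rw [h0, ← hw, ← Units.smul_def, smul_eq_zero_iff_eq] at hrt
    exact ne_zero_of_radical_ann hm hrt
  have hkill : ∀ a : A, ¬ IsUnit (X.presheaf.germ _ x hs a) →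
      ∃ (k : ℕ) (c : A), IsUnit (X.presheaf.germ _ x hs c) ∧ c • a ^ k • t = 0 := by
    intro a ha
    have hmem : X.presheaf.germ _ x hs a ∈ (annStalk m).radical := by
      rw [hm]; exact (IsLocalRing.mem_maximalIdeal _).mpr ha
    obtain ⟨k, hk⟩ := hmem
    rw [mem_annStalk, ← map_pow] at hk
    exact ⟨k, M1.exists_smul_eq_zero_of_germ_eq_zero F hU hs _ (by rw [M1.germ_smul, ← hrt, smul_comm, hk, smul_zero])⟩
  let P := hU.primeIdealOf ⟨x, hs⟩
  have hfib : ∀ y : X, f y = f x → x ⤳ y → y = x := fun y hy hxy => by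
    obtain ⟨W, hW, hWy⟩ := isDiscrete_iff_forall_exists_isOpen.mp (f.isDiscrete_preimage_singleton (f x)) y hy
    have : x ∈ W ∩ f ⁻¹' {f x} := ⟨hxy.mem_open hW ((hWy.ge rfl).1), rfl⟩
    rw [hWy] at this
    exact this.symm
  -- an element avoiding the other points of the fibre
  obtain ⟨a, ha, ha'⟩ : ∃ a : A, ¬ IsUnit (X.presheaf.germ _ x hs a) ∧
      ∀ y (hy : f y = f x), y ≠ x → IsUnit (X.presheaf.germ _ y (show y ∈ f ⁻¹ᵁ V from (congrArg (· ∈ V) hy).mpr hs) a) := by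
    let T := (f.finite_preimage_singleton (f x)).toFinset.filter (· ≠ x)
    have hTV : ∀ y ∈ T, y ∈ f ⁻¹ᵁ V := fun y hy => by
      have := (Finset.mem_filter.mp hy).1
      rw [Set.Finite.mem_toFinset] at this
      change f y ∈ V
      rw [this]; exact hs
    let g : X → Ideal A := fun y => if h : y ∈ f ⁻¹ᵁ V then (hU.primeIdealOf ⟨y, h⟩).asIdeal else ⊥
    have hsub : ¬ (P.asIdeal : Set A) ⊆ ⋃ y ∈ (T : Set X), g y := by
      rw [Ideal.subset_union_prime x x fun y hy _ _ => by simp only [g, dif_pos (hTV y hy)]; infer_instance]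
      rintro ⟨y, hy, hle⟩
      have hyV := hTV y hy
      simp only [g, dif_pos hyV] at hle
      have hyT := Finset.mem_filter.mp hy
      rw [Set.Finite.mem_toFinset] at hyT
      refine hyT.2 (hfib y hyT.1 (specializes_of_isUnit hU hyV hs fun b hb => ?_))
      by_contra hbx
      exact (M1.isUnit_germ_iff hU hyV b).mp hb (hle (by_contra fun hn => hbx ((M1.isUnit_germ_iff hU hs b).mpr hn)))
    obtain ⟨a, haP, hag⟩ := Set.not_subset.mp hsub
    refine ⟨a, fun h => (M1.isUnit_germ_iff hU hs a).mp h haP, fun y hy hne => ?_⟩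
    have hyT : y ∈ T := Finset.mem_filter.mpr ⟨(Set.Finite.mem_toFinset _).mpr hy, hne⟩
    refine (M1.isUnit_germ_iff hU (hTV y hyT) a).mpr fun h => hag ?_
    exact Set.mem_iUnion₂.mpr ⟨y, hyT, by simp only [g, dif_pos (hTV y hyT)]; exact h⟩
  obtain ⟨k₀, e, he, hek⟩ := hkill a ha
  let M : Submonoid A := ((IsUnit.submonoid _).comap (S.presheaf.germ V (f x) hs).hom).map (f.app V).hom
  have hlift : ∀ (q : Ideal A) [q.IsPrime], Disjoint (q : Set A) (M : Set A) →
      ∃ (y : X) (hy : y ∈ f ⁻¹ᵁ V), f y = f x ∧ ∀ c ∈ q, ¬ IsUnit (X.presheaf.germ _ y hy c) := by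
    intro q _ hqM
    obtain ⟨z, hz, hzu⟩ := exists_point hU q
    have hzs : f z ⤳ f x := specializes_of_isUnit hV hs hz fun b hb =>
      (isUnit_germ_app f hz b).mp ((hzu _).mpr (Set.disjoint_right.mp hqM ⟨b, hb, rfl⟩))
    obtain ⟨y, hzy, hy⟩ := f.isClosedMap.specializingMap hzs
    have hyV : y ∈ f ⁻¹ᵁ V := by change f y ∈ V; rw [hy]; exact hs
    refine ⟨y, hyV, hy, fun c hc hu => (hzu c).mp ?_ hc⟩
    exact (X.mem_basicOpen c z hz).mp (hzy.mem_open (X.basicOpen c).isOpen ((X.mem_basicOpen c y hyV).mpr hu))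
  let J : Ideal A := LinearMap.ker (LinearMap.toSpanSingleton A Γ(F, f ⁻¹ᵁ V) t)
  have hJ : ∀ c : A, c ∈ J ↔ c • t = 0 := fun c => by simp [J, LinearMap.mem_ker]
  -- a unit over the base in the ideal generated by the annihilator, `e` and a power of `a`
  obtain ⟨d, hd, hdK⟩ : ∃ d ∈ M, d ∈ J ⊔ Ideal.span {e} ⊔ Ideal.span {a ^ k₀} := by
    by_contra hn
    push Not at hn
    obtain ⟨q, hq, hKq, hqM⟩ := Ideal.exists_le_prime_disjoint _ M (Set.disjoint_right.mpr hn)
    obtain ⟨y, hy, hfy, hyq⟩ := hlift q hqM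
    by_cases hxy : y = x
    · subst hxy
      exact hyq e (hKq (Ideal.mem_sup_left (Ideal.mem_sup_right (Ideal.mem_span_singleton_self e)))) he
    · refine hyq (a ^ k₀) (hKq (Ideal.mem_sup_right (Ideal.mem_span_singleton_self _))) ?_
      rw [map_pow]
      exact (ha' y hfy hxy).pow k₀
  obtain ⟨j₀, hj₀, z, hz, rfl⟩ := Submodule.mem_sup.mp hdK
  obtain ⟨j, hj, z', hz', rfl⟩ := Submodule.mem_sup.mp hj₀
  obtain ⟨u, rfl⟩ := Ideal.mem_span_singleton'.mp hz'
  obtain ⟨v, rfl⟩ := Ideal.mem_span_singleton'.mp hz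
  have hj0 := (hJ j).mp hj
  have het : (j + u * e + v * a ^ k₀) • e • t = (u * e) • e • t := by
    rw [add_smul, add_smul, smul_comm j, hj0, smul_zero, zero_add, mul_smul v, smul_comm (a ^ k₀), hek, smul_zero, add_zero]
  have hpow : ∀ k : ℕ, (j + u * e + v * a ^ k₀) ^ k • e • t = (u * e) ^ k • e • t := by
    intro k
    induction k with
    | zero => simp
    | succ k ih => rw [pow_succ, mul_smul, het, smul_comm, ih, ← mul_smul, ← pow_succ' (u * e)]
  refine isWeakAssPoint_of_section hV hs (show Γ((Scheme.Modules.pushforward f).obj F, V) from e • t)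
    (fun h0 => htne ?_) fun b hb => ?_
  · have h1 := germ_push_eq_zero f F hs _ h0
    change F.presheaf.germ (f ⁻¹ᵁ V) x hs (e • t) = 0 at h1
    rw [M1.germ_smul] at h1
    obtain ⟨w, hw⟩ := he
    rwa [← hw, ← Units.smul_def, smul_eq_zero_iff_eq] at h1
  obtain ⟨k, w, hw, hk0⟩ : ∃ k : ℕ, ∃ w ∈ M, (w * (f.app V b * e) ^ k) • t = 0 := by
    by_contra hn
    push Not at hn
    obtain ⟨q, hq, hJq, hqM⟩ := Ideal.exists_le_prime_disjoint J (M ⊔ Submonoid.powers (f.app V b * e)) (by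
      rw [Set.disjoint_right]
      intro c hc hcJ
      obtain ⟨w, hw, _, ⟨k, rfl⟩, rfl⟩ := Submonoid.mem_sup.mp hc
      exact hn k w hw ((hJ _).mp hcJ))
    have hbe : f.app V b * e ∉ q :=
      Set.disjoint_right.mp hqM (Submonoid.mem_sup_right ⟨1, pow_one _⟩)
    obtain ⟨y, hy, hfy, hyq⟩ := hlift q (hqM.mono_right fun c hc => Submonoid.mem_sup_left hc)
    have haq : a ∈ q := hq.mem_of_pow_mem k₀ <| (hq.mem_or_mem
      (hJq ((hJ (e * a ^ k₀)).mpr (by rw [mul_smul, hek])))).resolve_left fun h => hbe (q.mul_mem_left _ h)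
    have hxy : y = x := by
      by_contra hne
      exact hyq a haq (ha' y hfy hne)
    subst hxy
    obtain ⟨k, c, hc, hck⟩ := hkill (f.app V b) fun h => hb ((isUnit_germ_app f hs b).mp h)
    refine hbe (q.mul_mem_right _ (hq.mem_of_pow_mem k ((hq.mem_or_mem
      (hJq ((hJ (c * f.app V b ^ k)).mpr (by rw [mul_smul, hck])))).resolve_left fun h => hyq c h hc)))
  obtain ⟨b₁, hb₁, hb₁w⟩ := hw
  obtain ⟨b₂, hb₂, hb₂d⟩ := hd
  refine ⟨k, germ_zero_of_smul hs (b₁ * b₂ ^ k) _ (by rw [map_mul, map_pow]; exact hb₁.mul (hb₂.pow k)) ?_⟩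
  change (f.app V (b₁ * b₂ ^ k)) • ((f.app V (b ^ k)) • e • t) = 0
  rw [map_mul, map_pow, map_pow, mul_smul, smul_comm ((f.app V).hom b₂ ^ k), show (f.app V).hom b₂ = _ from hb₂d,
    hpow, show (f.app V).hom b₁ = _ from hb₁w, ← mul_smul, ← mul_smul, ← mul_smul]
  have h4 := congrArg (fun v => (u ^ k * e) • v) hk0
  simp only [smul_zero] at h4
  rw [← h4, ← mul_smul]
  congr 1
  ring

end push

end Groth.Agent.WA
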