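import Groth.Agent.Lib.ModM1.Affine
import Groth.Agent.Lib.ModM1.Coh
import Groth.Agent.Lib.ModM1.Stalk
import Groth.Agent.Lib.Twist.Triv
import Groth.Prelude.Def_CurvBase
import Mathlib.AlgebraicGeometry.Noetherian
import Mathlib.RingTheory.Ideal.AssociatedPrime.Finiteness

/-!
Weakly associated points of quasi-coherent modules.
-/

universe u

open CategoryTheory Limits AlgebraicGeometry TopologicalSpace Opposite

set_option backward.isDefEq.respectTransparency false

namespace Groth.Agent.WA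

variable {X : Scheme.{u}} {F : X.Modules}

/-- The annihilator of an element, as used in `Curv2.IsWeakAssPoint`. -/
noncomputable abbrev annStalk {x : X} (m : F.presheaf.stalk x) : Ideal (X.presheaf.stalk x) :=
  LinearMap.ker (LinearMap.toSpanSingleton (X.presheaf.stalk x) (F.presheaf.stalk x) m)

theorem mem_annStalk {x : X} (m : F.presheaf.stalk x) (c : X.presheaf.stalk x) : c ∈ annStalk m ↔ c • m = 0 := by
  simp [annStalk, LinearMap.mem_ker]

theorem ne_zero_of_radical_ann {x : X} {m : F.presheaf.stalk x}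
    (h : (annStalk m).radical = IsLocalRing.maximalIdeal (X.presheaf.stalk x)) : m ≠ 0 := fun h0 => by
  have : (1 : X.presheaf.stalk x) ∈ (annStalk m).radical :=
    Ideal.le_radical ((mem_annStalk m 1).mpr (by rw [h0, smul_zero]))
  rw [h] at this
  exact (IsLocalRing.maximalIdeal.isMaximal _).ne_top ((Ideal.eq_top_iff_one _).mpr this)

/-- Associated and weakly associated points agree by definition. -/
theorem isAssPoint_iff (x : X) : Curv2.IsAssPoint F x ↔ Curv2.IsWeakAssPoint F x := by
  have e : ∀ m : F.presheaf.stalk x,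
      Submodule.colon (⊥ : Submodule (X.presheaf.stalk x) (F.presheaf.stalk x)) {m} = annStalk m := fun m => by
    ext c
    rw [mem_annStalk, Submodule.mem_colon_singleton, Submodule.mem_bot]
  constructor
  · rintro ⟨-, m, hm⟩
    exact ⟨m, (congrArg Ideal.radical (e m)).symm.trans hm.symm⟩
  · rintro ⟨m, hm⟩
    exact ⟨inferInstance, m, hm.symm.trans (congrArg Ideal.radical (e m)).symm⟩

theorem germ_zero_of_specializes {U : X.Opens} {x y : X} (hx : x ∈ U) (hy : y ∈ U) (h : y ⤳ x) (t : Γ(F, U))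
    (ht : F.presheaf.germ U x hx t = 0) : F.presheaf.germ U y hy t = 0 := by
  obtain ⟨W, hxW, i, i', e⟩ := F.presheaf.germ_eq x hx hx t 0 (ht.trans (map_zero _).symm)
  have hyW : y ∈ W := h.mem_open W.isOpen hxW
  rw [← F.presheaf.germ_res_apply i y hyW, e, map_zero, map_zero]

section affine

variable [Coh.IsQCoh F] {U : X.Opens} (hU : IsAffineOpen U)

include hU

/-- A section with nonzero germ has a nonzero germ at a weakly associated generisation. -/
theorem exists_weakAss {x : X} (hx : x ∈ U) (t : Γ(F, U)) (ht : F.presheaf.germ U x hx t ≠ 0) :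
    ∃ (y : X) (hy : y ∈ U), y ⤳ x ∧ Curv2.IsWeakAssPoint F y ∧ F.presheaf.germ U y hy t ≠ 0 := by
  let A := Γ(X, U)
  let J : Ideal A := LinearMap.ker (LinearMap.toSpanSingleton A Γ(F, U) t)
  have hJ : ∀ a : A, a ∈ J ↔ a • t = 0 := fun a => by simp [J, LinearMap.mem_ker]
  let P := hU.primeIdealOf ⟨x, hx⟩
  have hJP : J ≤ P.asIdeal := fun a ha => by
    by_contra hna
    obtain ⟨u, hu⟩ := (M1.isUnit_germ_iff hU hx a).mpr hna
    have h := congrArg (F.presheaf.germ U x hx) ((hJ a).mp ha)
    rw [M1.germ_smul, map_zero, ← hu] at h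
    exact ht (by rw [← one_smul (X.presheaf.stalk x) (F.presheaf.germ U x hx t), ← Units.inv_mul u, mul_smul, h, smul_zero])
  obtain ⟨p, hp, hpP⟩ := Ideal.exists_minimalPrimes_le hJP
  haveI : p.IsPrime := hp.1.1
  let y := hU.fromSpec ⟨p, inferInstance⟩
  have hy : y ∈ U := hU.range_fromSpec.le ⟨_, rfl⟩
  have hP : hU.primeIdealOf ⟨y, hy⟩ = ⟨p, inferInstance⟩ :=
    hU.fromSpec.isOpenEmbedding.injective (hU.fromSpec_primeIdealOf ⟨y, hy⟩)
  have hyx : y ⤳ x := by
    have h := ((PrimeSpectrum.le_iff_specializes ⟨p, inferInstance⟩ P).mp hpP).map hU.fromSpec.continuous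
    rwa [hU.fromSpec_primeIdealOf ⟨x, hx⟩] at h
  let m := F.presheaf.germ U y hy t
  have hne : m ≠ 0 := fun h0 => by
    obtain ⟨r, hr, hr0⟩ := M1.exists_smul_eq_zero_of_germ_eq_zero F hU hy t h0
    have hrp := (M1.isUnit_germ_iff hU hy r).mp hr
    rw [hP] at hrp
    exact hrp (hp.1.2 ((hJ r).mpr hr0))
  refine ⟨y, hy, hyx, ⟨m, le_antisymm ?_ ?_⟩, hne⟩
  · refine (IsLocalRing.maximalIdeal.isMaximal _).isPrime.radical_le_iff.mpr (IsLocalRing.le_maximalIdeal fun h => hne ?_)
    have h1 : (1 : X.presheaf.stalk y) ∈ annStalk m := (Ideal.eq_top_iff_one _).mp h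
    rwa [mem_annStalk, one_smul] at h1
  · rw [Ideal.radical_eq_sInf]
    refine le_sInf fun q hq z hz => ?_
    let := TopCat.Presheaf.algebra_section_stalk X.presheaf (⟨y, hy⟩ : U)
    have := hU.isLocalization_stalk ⟨y, hy⟩
    haveI := hq.2
    have hq' : q.comap (X.presheaf.germ U y hy).hom = p := by
      refine le_antisymm (fun a ha => ?_) (hp.2 ⟨inferInstance, fun a ha => ?_⟩ fun a ha => ?_)
      · by_contra hap
        refine hq.2.ne_top (Ideal.eq_top_of_isUnit_mem _ ha ((M1.isUnit_germ_iff hU hy a).mpr ?_))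
        rw [hP]; exact hap
      · refine hq.1 ((mem_annStalk m _).mpr ?_)
        change X.presheaf.germ U y hy a • m = 0
        rw [← M1.germ_smul, (hJ a).mp ha, map_zero]
      · by_contra hap
        refine hq.2.ne_top (Ideal.eq_top_of_isUnit_mem _ ha ((M1.isUnit_germ_iff hU hy a).mpr ?_))
        rw [hP]; exact hap
    obtain ⟨⟨a, c⟩, h⟩ := IsLocalization.surj (hU.primeIdealOf ⟨y, hy⟩).asIdeal.primeCompl z
    have ha : a ∈ p := by
      by_contra hap
      have h2 := (M1.isUnit_germ_iff hU hy a).mpr (by rw [hP]; exact hap)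
      change IsUnit (algebraMap Γ(X, U) (X.presheaf.stalk y) a) at h2
      rw [← h, IsUnit.mul_iff] at h2
      exact (IsLocalRing.mem_maximalIdeal _).mp hz h2.1
    rw [← hq'] at ha
    have h3 : z * algebraMap Γ(X, U) (X.presheaf.stalk y) c ∈ q := h ▸ ha
    exact (hq.2.mem_or_mem h3).resolve_right fun hc =>
      hq.2.ne_top (Ideal.eq_top_of_isUnit_mem _ hc (IsLocalization.map_units _ c))

end affine

/-- A module whose sections restrict injectively to an open containing the weakly associated points. -/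
theorem res_injective [Coh.IsQCoh F] {U V : X.Opens} (hVU : V ≤ U)
    (h : ∀ x ∈ U, Curv2.IsWeakAssPoint F x → x ∈ V) :
    Function.Injective (F.presheaf.map (homOfLE hVU).op) := by
  intro a b hab
  refine M1.section_ext a b fun x hx => ?_
  by_contra hne
  obtain ⟨W, hW, hxW, hWU⟩ := exists_isAffineOpen_mem_and_subset (U := U) hx
  have hne' : F.presheaf.germ W x hxW (M1.mres F hWU (a - b)) ≠ 0 := by
    rw [M1.germ_mres F hWU hxW, map_sub]
    exact sub_ne_zero.mpr hne
  obtain ⟨y, hy, -, hwa, hny⟩ := exists_weakAss hW hxW _ hne'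
  have hyV := h y (hWU hy) hwa
  rw [M1.germ_mres F hWU hy, map_sub] at hny
  refine hny (sub_eq_zero.mpr ?_)
  rw [← F.presheaf.germ_res_apply (homOfLE hVU) y hyV a, ← F.presheaf.germ_res_apply (homOfLE hVU) y hyV b, hab]

/-- A weakly associated point lies in the support. -/
theorem not_subsingleton_of_isWeakAssPoint {x : X} (h : Curv2.IsWeakAssPoint F x) :
    ¬ Subsingleton (F.presheaf.stalk x) := fun hs => by
  obtain ⟨m, hm⟩ := h
  exact ne_zero_of_radical_ann hm (Subsingleton.elim _ _)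

/-- Maximal points of the support are weakly associated. -/
theorem isWeakAssPoint_of_maximal [Coh.IsQCoh F] {x : X} (hx : x ∈ CohB1.support F)
    (hmax : ∀ y ∈ CohB1.support F, y ⤳ x → y = x) : Curv2.IsWeakAssPoint F x := by
  have hne : ∃ m : F.presheaf.stalk x, m ≠ 0 := by
    by_contra hc
    push Not at hc
    exact hx ⟨fun a b => (hc a).trans (hc b).symm⟩
  obtain ⟨m, hm⟩ := hne
  obtain ⟨V, hxV, s, rfl⟩ := F.presheaf.exists_germ_eq m
  obtain ⟨W, hW, hxW, hWV⟩ := exists_isAffineOpen_mem_and_subset (U := V) hxV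
  rw [← M1.germ_mres F hWV hxW] at hm
  obtain ⟨y, hy, hyx, hwa, -⟩ := exists_weakAss hW hxW _ hm
  exact hmax y (not_subsingleton_of_isWeakAssPoint hwa) hyx ▸ hwa

/-- The germ of a section of the structure sheaf, in the two senses. -/
theorem germ_O_eq_zero_iff {U : X.Opens} {x : X} (hx : x ∈ U) (a : Γ(X, U)) :
    (Coh.structureModule X).presheaf.germ U x hx (show Γ(Coh.structureModule X, U) from a) = 0 ↔
      X.presheaf.germ U x hx a = 0 := by
  constructor
  · intro h
    obtain ⟨W, hxW, i, i', e⟩ := (Coh.structureModule X).presheaf.germ_eq x hx hx _ 0 (h.trans (map_zero _).symm)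
    rw [map_zero] at e
    rw [← X.presheaf.germ_res_apply i x hxW]
    exact (congrArg (X.presheaf.germ W x hxW) (show X.presheaf.map i.op a = 0 from e)).trans (map_zero _)
  · intro h
    obtain ⟨W, hxW, i, i', e⟩ := X.presheaf.germ_eq x hx hx _ 0 (h.trans (map_zero _).symm)
    rw [map_zero] at e
    rw [← (Coh.structureModule X).presheaf.germ_res_apply i x hxW]
    exact (congrArg ((Coh.structureModule X).presheaf.germ W x hxW)
      (show (Coh.structureModule X).presheaf.map i.op (show Γ(Coh.structureModule X, U) from a) = 0 from e)).trans (map_zero _)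

/-- A function which is invertible at the weakly associated generisations is a nonzerodivisor at the point. -/
theorem germ_mem_nonZeroDivisors {U : X.Opens} (hU : IsAffineOpen U) {x : X} (hx : x ∈ U) (a : Γ(X, U))
    (h : ∀ (y : X) (hy : y ∈ U), y ⤳ x → Curv2.IsWeakAssPoint (Coh.structureModule X) y →
      IsUnit (X.presheaf.germ U y hy a)) :
    X.presheaf.germ U x hx a ∈ nonZeroDivisors (X.presheaf.stalk x) := by
  haveI := M1.isQCoh_structureModule X
  let := TopCat.Presheaf.algebra_section_stalk X.presheaf (⟨x, hx⟩ : U)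
  have := hU.isLocalization_stalk ⟨x, hx⟩
  rw [mem_nonZeroDivisors_iff_right]
  intro z hz
  obtain ⟨⟨b, c⟩, hbc⟩ := IsLocalization.surj (hU.primeIdealOf ⟨x, hx⟩).asIdeal.primeCompl z
  have hbc : z * X.presheaf.germ U x hx c = X.presheaf.germ U x hx b := hbc
  have hcu : IsUnit (X.presheaf.germ U x hx c) := (M1.isUnit_germ_iff hU hx c).mpr c.2
  refine hcu.mul_left_eq_zero.mp ?_
  by_contra hne
  rw [hbc] at hne
  have h0 : X.presheaf.germ U x hx (b * a) = 0 := by
    rw [map_mul, ← hbc, mul_right_comm, hz, zero_mul]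
  obtain ⟨y, hy, hyx, hwa, hny⟩ := exists_weakAss hU hx (show Γ(Coh.structureModule X, U) from b)
    (fun h' => hne ((germ_O_eq_zero_iff hx b).mp h'))
  refine hny ((germ_O_eq_zero_iff hy b).mpr ?_)
  have h1 := (germ_O_eq_zero_iff hy (b * a)).mp (germ_zero_of_specializes hx hy hyx _ ((germ_O_eq_zero_iff hx (b * a)).mpr h0))
  rw [map_mul] at h1
  exact (h y hy hyx hwa).mul_left_eq_zero.mp h1

/-- Conversely a nonzerodivisor is invertible at the weakly associated generisations. -/
theorem isUnit_germ_of_nonZeroDivisors {U : X.Opens} (hU : IsAffineOpen U) {x y : X} (hx : x ∈ U) (hy : y ∈ U)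
    (hyx : y ⤳ x) (a : Γ(X, U)) (ha : X.presheaf.germ U x hx a ∈ nonZeroDivisors (X.presheaf.stalk x))
    (hwa : Curv2.IsWeakAssPoint (Coh.structureModule X) y) : IsUnit (X.presheaf.germ U y hy a) := by
  haveI := M1.isQCoh_structureModule X
  by_contra hu
  obtain ⟨m, hm⟩ := hwa
  have hmem : X.presheaf.germ U y hy a ∈ (annStalk m).radical := by
    rw [hm]; exact (IsLocalRing.mem_maximalIdeal _).mpr hu
  obtain ⟨k, hk⟩ := hmem
  rw [mem_annStalk, ← map_pow] at hk
  obtain ⟨r, β, hr, hrβ⟩ := M1.exists_germ_smul_eq (Coh.structureModule X) hU hy m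
  have h0 : (Coh.structureModule X).presheaf.germ U y hy (a ^ k • β) = 0 := by
    rw [M1.germ_smul, ← hrβ, smul_comm, hk, smul_zero]
  obtain ⟨c, hc, hc0⟩ := M1.exists_smul_eq_zero_of_germ_eq_zero (Coh.structureModule X) hU hy _ h0
  have hc0 : c * (a ^ k * (show Γ(X, U) from β)) = 0 := hc0
  have h1 : X.presheaf.germ U x hx (c * (show Γ(X, U) from β)) = 0 := by
    refine (mul_right_mem_nonZeroDivisors_eq_zero_iff (pow_mem ha k)).mp ?_
    rw [← map_pow, ← map_mul, mul_assoc, mul_comm (show Γ(X, U) from β), hc0, map_zero]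
  have h2 := (germ_O_eq_zero_iff hy _).mp
    (germ_zero_of_specializes hx hy hyx _ ((germ_O_eq_zero_iff hx _).mpr h1))
  rw [map_mul] at h2
  have h3 := (germ_O_eq_zero_iff hy _).mpr (hc.mul_right_eq_zero.mp h2)
  obtain ⟨u, hu'⟩ := hr
  refine ne_zero_of_radical_ann hm ?_
  rw [← one_smul (X.presheaf.stalk y) m, ← Units.inv_mul u, mul_smul, hu', hrβ]
  exact smul_eq_zero_of_right _ h3

/-- At a weakly associated point of a locally noetherian scheme the defining element comes from a section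
whose annihilator has the prime as radical. -/
theorem exists_section_weakAss [Coh.IsQCoh F] [IsLocallyNoetherian X] {U : X.Opens} (hU : IsAffineOpen U) {y : X}
    (hy : y ∈ U) (hwa : Curv2.IsWeakAssPoint F y) :
    ∃ t : Γ(F, U), F.presheaf.germ U y hy t ≠ 0 ∧ (hU.primeIdealOf ⟨y, hy⟩).asIdeal =
      (Submodule.colon (⊥ : Submodule Γ(X, U) Γ(F, U)) {t}).radical := by
  classical
  haveI : IsNoetherianRing Γ(X, U) := IsLocallyNoetherian.component_noetherian ⟨U, hU⟩
  obtain ⟨m, hm⟩ := hwa
  obtain ⟨r, t, hr, hrt⟩ := M1.exists_germ_smul_eq F hU hy m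
  obtain ⟨s, hs⟩ := IsNoetherian.noetherian (hU.primeIdealOf ⟨y, hy⟩).asIdeal
  have hk : ∀ a ∈ s, ∃ (k : ℕ) (c : Γ(X, U)), IsUnit (X.presheaf.germ U y hy c) ∧ c • a ^ k • t = 0 := by
    intro a ha
    have hu : ¬ IsUnit (X.presheaf.germ U y hy a) := fun hu =>
      (M1.isUnit_germ_iff hU hy a).mp hu (hs ▸ Submodule.subset_span ha)
    have hmem : X.presheaf.germ U y hy a ∈ (annStalk m).radical := by
      rw [hm]; exact (IsLocalRing.mem_maximalIdeal _).mpr hu
    obtain ⟨k, hk⟩ := hmem
    rw [mem_annStalk, ← map_pow] at hk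
    refine ⟨k, M1.exists_smul_eq_zero_of_germ_eq_zero F hU hy _ ?_⟩
    rw [M1.germ_smul, ← hrt, smul_comm, hk, smul_zero]
  choose! k c hc hc0 using hk
  let d := ∏ a ∈ s, c a
  have hd : IsUnit (X.presheaf.germ U y hy d) := by
    rw [map_prod]
    exact Submonoid.prod_mem (IsUnit.submonoid _) fun a ha => hc a ha
  have hne : F.presheaf.germ U y hy (d • t) ≠ 0 := fun h0 => by
    rw [M1.germ_smul, ← hrt, ← mul_smul] at h0
    obtain ⟨u, hu⟩ := hd.mul hr
    refine ne_zero_of_radical_ann hm ?_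
    rw [← one_smul (X.presheaf.stalk y) m, ← Units.inv_mul u, mul_smul, hu, h0, smul_zero]
  refine ⟨d • t, hne, le_antisymm ?_ ?_⟩
  · rw [← hs, Submodule.span_le]
    intro a ha
    refine ⟨k a, ?_⟩
    rw [Submodule.mem_colon_singleton, Submodule.mem_bot]
    obtain ⟨q, hq⟩ := Finset.dvd_prod_of_mem c ha
    rw [show d = c a * q from hq, mul_comm (c a), mul_smul, smul_comm, smul_comm (a ^ k a) (c a), hc0 a ha, smul_zero]
  · rintro a ⟨n, hn⟩
    rw [Submodule.mem_colon_singleton, Submodule.mem_bot] at hn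
    by_contra ha
    have hu := ((M1.isUnit_germ_iff hU hy a).mpr ha).pow n
    rw [← map_pow] at hu
    obtain ⟨u, hu⟩ := hu
    have h := congrArg (F.presheaf.germ U y hy) hn
    rw [M1.germ_smul, map_zero, ← hu] at h
    exact hne (by rw [← one_smul (X.presheaf.stalk y) (F.presheaf.germ U y hy (d • t)), ← Units.inv_mul u, mul_smul, h, smul_zero])

/-- Finitely many associated points in an affine open. -/
theorem finite_weakAss_affine [IsLocallyNoetherian X] (hQ : Coh.IsQCoh F) (hFT : CohB1.IsFT F) {U : X.Opens}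
    (hU : IsAffineOpen U) : {x : X | x ∈ U ∧ Curv2.IsWeakAssPoint F x}.Finite := by
  haveI := hQ
  haveI : IsNoetherianRing Γ(X, U) := IsLocallyNoetherian.component_noetherian ⟨U, hU⟩
  haveI := M1.finite_sections hQ hFT hU
  have h : {x : X | x ∈ U ∧ Curv2.IsWeakAssPoint F x} ⊆
      hU.fromSpec '' {p | p.asIdeal ∈ associatedPrimes Γ(X, U) Γ(F, U)} := by
    rintro x ⟨hx, hwa⟩
    obtain ⟨t, -, ht⟩ := exists_section_weakAss hU hx hwa
    exact ⟨hU.primeIdealOf ⟨x, hx⟩, ⟨(hU.primeIdealOf ⟨x, hx⟩).isPrime, t, ht⟩, hU.fromSpec_primeIdealOf ⟨x, hx⟩⟩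
  refine Set.Finite.subset (Set.Finite.image _ (Set.Finite.of_finite_image (f := fun p => p.asIdeal) ?_ ?_)) h
  · exact (associatedPrimes.finite Γ(X, U) Γ(F, U)).subset (by rintro _ ⟨p, hp, rfl⟩; exact hp)
  · exact fun p _ q _ h => PrimeSpectrum.ext h

/-- Finitely many associated points in a quasi-compact open. -/
theorem finite_weakAss [IsLocallyNoetherian X] (hQ : Coh.IsQCoh F) (hFT : CohB1.IsFT F) {U : X.Opens}
    (hU : IsCompact (U : Set X)) : {x : X | x ∈ U ∧ Curv2.IsWeakAssPoint F x}.Finite := by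
  choose W hW hxW _ using fun x : X => exists_isAffineOpen_mem_and_subset (U := (⊤ : X.Opens)) (x := x) trivial
  obtain ⟨T, hT⟩ := hU.elim_finite_subcover (fun x => (W x : Set X)) (fun x => (W x).isOpen)
    (fun x _ => Set.mem_iUnion.mpr ⟨x, hxW x⟩)
  refine (T.finite_toSet.biUnion fun z _ => finite_weakAss_affine hQ hFT (hW z)).subset ?_
  rintro x ⟨hx, hwa⟩
  obtain ⟨z, hz, hxz⟩ := Set.mem_iUnion₂.mp (hT hx)
  exact Set.mem_iUnion₂.mpr ⟨z, hz, hxz, hwa⟩

end Groth.Agent.WA

namespace Groth.Agent.WA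

variable {X : Scheme.{u}}

/-- On a reduced scheme the weakly associated points of the structure sheaf are maximal. -/
theorem eq_of_specializes_weakAss [IsReduced X] {y z : X}
    (hwa : Curv2.IsWeakAssPoint (Coh.structureModule X) y) (hzy : z ⤳ y) : z = y := by
  haveI := M1.isQCoh_structureModule X
  obtain ⟨U, hU, hy, -⟩ := exists_isAffineOpen_mem_and_subset (U := (⊤ : X.Opens)) (x := y) trivial
  have hz : z ∈ U := hzy.mem_open U.isOpen hy
  obtain ⟨m, hm⟩ := hwa
  obtain ⟨r, t, hr, hrt⟩ := M1.exists_germ_smul_eq (Coh.structureModule X) hU hy m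
  let P := hU.primeIdealOf ⟨y, hy⟩
  let Q := hU.primeIdealOf ⟨z, hz⟩
  have hQP : Q.asIdeal ≤ P.asIdeal := fun a ha => by
    by_contra hna
    have hu := (X.mem_basicOpen a y hy).mpr ((M1.isUnit_germ_iff hU hy a).mpr hna)
    exact (M1.isUnit_germ_iff hU hz a).mp ((X.mem_basicOpen a z hz).mp (hzy.mem_open (X.basicOpen a).isOpen hu)) ha
  have hne : X.presheaf.germ U y hy (show Γ(X, U) from t) ≠ 0 := fun h0 => by
    have h1 := (germ_O_eq_zero_iff hy _).mpr h0
    obtain ⟨u, hu⟩ := hr
    refine ne_zero_of_radical_ann hm ?_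
    rw [← one_smul (X.presheaf.stalk y) m, ← Units.inv_mul u, mul_smul, hu, hrt]
    exact smul_eq_zero_of_right _ h1
  have hkill : ∀ a ∈ P.asIdeal, X.presheaf.germ U y hy (a * (show Γ(X, U) from t)) = 0 := fun a ha => by
    have hu : ¬ IsUnit (X.presheaf.germ U y hy a) := fun hu => (M1.isUnit_germ_iff hU hy a).mp hu ha
    have hmem : X.presheaf.germ U y hy a ∈ (annStalk m).radical := by
      rw [hm]; exact (IsLocalRing.mem_maximalIdeal _).mpr hu
    obtain ⟨k, hk⟩ := hmem
    rw [mem_annStalk, ← map_pow] at hk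
    have h2 : X.presheaf.germ U y hy (a ^ k * (show Γ(X, U) from t)) = 0 := by
      refine (germ_O_eq_zero_iff hy _).mp ?_
      change (Coh.structureModule X).presheaf.germ U y hy (a ^ k • t) = 0
      rw [M1.germ_smul, ← hrt, smul_comm, hk, smul_zero]
    haveI : _root_.IsReduced (X.presheaf.stalk y) := inferInstance
    refine IsReduced.eq_zero _ ⟨k + 1, ?_⟩
    rw [map_mul, map_pow] at h2
    rw [map_mul]
    linear_combination (X.presheaf.germ U y hy a * X.presheaf.germ U y hy (show Γ(X, U) from t) ^ k) * h2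
  -- a minimal prime avoiding the element
  have hPQ : P.asIdeal ≤ Q.asIdeal := fun a ha => by
    by_contra haQ
    obtain ⟨c, hc, hc0⟩ := M1.exists_smul_eq_zero_of_germ_eq_zero (Coh.structureModule X) hU hy
      (show Γ(Coh.structureModule X, U) from a * (show Γ(X, U) from t)) ((germ_O_eq_zero_iff hy _).mpr (hkill a ha))
    have hcQ : c ∉ Q.asIdeal := fun hcQ => (M1.isUnit_germ_iff hU hy c).mp hc (hQP hcQ)
    have htQ : (show Γ(X, U) from t) ∈ Q.asIdeal := by
      have h3 : c * (a * (show Γ(X, U) from t)) ∈ Q.asIdeal := by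
        rw [show c * (a * (show Γ(X, U) from t)) = 0 from hc0]; exact zero_mem _
      exact (Q.isPrime.mem_or_mem ((Q.isPrime.mem_or_mem h3).resolve_left hcQ)).resolve_left haQ
    -- `t` is in every minimal prime inside `P`
    obtain ⟨q, hq, hqt⟩ : ∃ q : Ideal (X.presheaf.stalk y), q.IsPrime ∧ X.presheaf.germ U y hy (show Γ(X, U) from t) ∉ q := by
      by_contra hall
      push Not at hall
      refine hne (?_ : X.presheaf.germ U y hy (show Γ(X, U) from t) = 0)
      haveI : _root_.IsReduced (X.presheaf.stalk y) := inferInstance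
      refine IsReduced.eq_zero _ ?_
      rw [← mem_nilradical, nilradical_eq_sInf]
      exact Ideal.mem_sInf.mpr fun {J} hJ => hall J hJ
    haveI := hq
    let := TopCat.Presheaf.algebra_section_stalk X.presheaf (⟨y, hy⟩ : U)
    have := hU.isLocalization_stalk ⟨y, hy⟩
    have hPq : ∀ b ∈ P.asIdeal, X.presheaf.germ U y hy b ∈ q := fun b hb => by
      have h4 := hkill b hb
      rw [map_mul] at h4
      exact (hq.mem_or_mem (h4 ▸ q.zero_mem)).resolve_right hqt
    -- so `q` is the maximal ideal and every prime inside `P` is `P`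
    have hmin : ∀ b ∈ P.asIdeal, X.presheaf.germ U y hy b ∈ Q.asIdeal.map (algebraMap Γ(X, U) (X.presheaf.stalk y)) := by
      intro b hb
      haveI hQp : (Q.asIdeal.map (algebraMap Γ(X, U) (X.presheaf.stalk y))).IsPrime :=
        IsLocalization.isPrime_of_isPrime_disjoint P.asIdeal.primeCompl _ _ Q.isPrime
          (Set.disjoint_left.mpr fun e he heQ => he (hQP heQ))
      have h4 := hkill b hb
      rw [map_mul] at h4
      refine (hQp.mem_or_mem (h4 ▸ zero_mem _)).resolve_right fun htm => hqt ?_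
      exact hPq _ (hQP htQ)
    obtain ⟨d, hd, hd'⟩ := (IsLocalization.algebraMap_mem_map_algebraMap_iff P.asIdeal.primeCompl
      (X.presheaf.stalk y) _ a).mp (hmin a ha)
    exact haQ ((Q.isPrime.mem_or_mem hd').resolve_left fun hdQ => hd (hQP hdQ))
  exact (hU.fromSpec_primeIdealOf ⟨z, hz⟩).symm.trans
    ((congrArg hU.fromSpec (PrimeSpectrum.ext (le_antisymm hQP hPQ))).trans (hU.fromSpec_primeIdealOf ⟨y, hy⟩))

end Groth.Agent.WA
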