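import Groth.Agent.Lib.WeakAss18.Basic
import Groth.Agent.Lib.ModM1.Exact
import Groth.Agent.Lib.Depth.Basic
import Groth.Agent.Lib.Depth.More
import Groth.Prelude.Def_RefHull

/-!
An isomorphism criterion through depth.
-/

universe u

open CategoryTheory Limits AlgebraicGeometry TopologicalSpace Opposite

set_option backward.isDefEq.respectTransparency false

namespace Groth.Agent.WA

section algebra

variable {R : Type u} [CommRing R] [IsNoetherianRing R] [IsLocalRing R]
  {M N : Type u} [AddCommGroup M] [Module R M] [Module.Finite R M] [AddCommGroup N] [Module R N]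

theorem exists_regular_of_one_le_depth [Nontrivial M] (h : 1 ≤ LocCoh.depth R M) :
    ∃ r ∈ IsLocalRing.maximalIdeal R, IsSMulRegular M r :=
  DepthLib.exists_isSMulRegular_of_one_le_idealDepth
    (Submodule.top_ne_ideal_smul_of_le_jacobson_annihilator (IsLocalRing.maximalIdeal_le_jacobson _)).symm h

/-- If a module of depth at least two maps injectively to a module without the closed point associated,
then no element outside the image is pushed into it by powers of the maximal ideal. -/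
theorem mem_range_of_depth_two [Nontrivial M] (φ : M →ₗ[R] N) (hφ : Function.Injective φ) (hdepth : 2 ≤ LocCoh.depth R M)
    (hN : ∀ n : N, (∀ z ∈ IsLocalRing.maximalIdeal R, ∃ k : ℕ, z ^ k • n = 0) → n = 0)
    (g : N) (hg : ∀ z ∈ IsLocalRing.maximalIdeal R, ∃ k : ℕ, z ^ k • g ∈ LinearMap.range φ) :
    g ∈ LinearMap.range φ := by
  obtain ⟨r, hr, hreg⟩ := exists_regular_of_one_le_depth (le_trans one_le_two hdepth)
  obtain ⟨n, a, ha⟩ := hg r hr
  obtain ⟨n', hn', a', ha'⟩ : ∃ n', n ≤ n' + 1 ∧ r ^ (n' + 1) • g ∈ LinearMap.range φ :=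
    ⟨n, n.le_succ, by rw [pow_succ', mul_smul]; exact Submodule.smul_mem _ r ⟨a, ha⟩⟩
  let r' := r ^ (n' + 1)
  have hr' : r' ∈ IsLocalRing.maximalIdeal R := Ideal.pow_mem_of_mem _ hr _ n'.succ_pos
  have hreg' : IsSMulRegular M r' := hreg.pow _
  have h1 : ((1 : ℕ) : ℕ∞) ≤ LocCoh.depth R (QuotSMulTop r' M) :=
    (DepthLib.natCast_le_idealDepth_quotSMulTop_iff hr' hreg' 1).mpr (le_trans (by norm_num) hdepth)
  haveI : Nontrivial (QuotSMulTop r' M) := by
    refine Submodule.Quotient.nontrivial_iff.mpr fun h => ?_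
    refine (Submodule.top_ne_ideal_smul_of_le_jacobson_annihilator (R := R) (M := M) (IsLocalRing.maximalIdeal_le_jacobson _)) (le_antisymm ?_ le_top)
    conv_lhs => rw [← h]
    rintro _ ⟨x, -, rfl⟩
    exact Submodule.smul_mem_smul hr' Submodule.mem_top
  obtain ⟨s, hs, hsreg⟩ := exists_regular_of_one_le_depth (R := R) (M := QuotSMulTop r' M) (by exact_mod_cast h1)
  obtain ⟨k, b, hb⟩ := hg s hs
  have hab : s ^ k • a' = r' • b := hφ (by rw [map_smul, map_smul, ha', hb, smul_comm])
  obtain ⟨c, hc⟩ : ∃ c : M, r' • c = a' := by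
    have : (Submodule.Quotient.mk a' : QuotSMulTop r' M) = 0 := (hsreg.pow k) (by
      change s ^ k • (Submodule.Quotient.mk a' : QuotSMulTop r' M) = s ^ k • (0 : QuotSMulTop r' M)
      rw [smul_zero, ← Submodule.Quotient.mk_smul, hab, Submodule.Quotient.mk_eq_zero]
      exact Submodule.smul_mem_pointwise_smul b r' _ Submodule.mem_top)
    rw [Submodule.Quotient.mk_eq_zero, Submodule.mem_smul_pointwise_iff_exists] at this
    exact let ⟨c, _, hc⟩ := this; ⟨c, hc⟩
  refine ⟨c, (sub_eq_zero.mp (hN (g - φ c) fun z hz => ?_)).symm⟩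
  obtain ⟨j, d, hd⟩ := hg z hz
  refine ⟨j, ?_⟩
  have h0 : r' • (g - φ c) = 0 := by rw [smul_sub, ← map_smul, hc, ha', sub_self]
  have he : φ (d - z ^ j • c) = z ^ j • (g - φ c) := by rw [map_sub, map_smul, hd, smul_sub]
  have hz0 : d - z ^ j • c = 0 := hreg' (by
    apply hφ
    change φ (r' • (d - z ^ j • c)) = φ (r' • (0 : M))
    rw [map_smul, he, smul_comm, h0, smul_zero, smul_zero, map_zero])
  rw [← he, hz0, map_zero]

end algebra

variable {X : Scheme.{u}}

/-- A quasi-coherent module with no weakly associated points vanishes. -/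
theorem subsingleton_stalk_of_no_weakAss {C : X.Modules} [Coh.IsQCoh C] (h : ∀ x, ¬ Curv2.IsWeakAssPoint C x) (x : X) :
    ∀ a : C.presheaf.stalk x, a = 0 := by
  intro a
  by_contra ha
  obtain ⟨W, hW, hxW, -⟩ := exists_isAffineOpen_mem_and_subset (U := (⊤ : X.Opens)) (x := x) trivial
  obtain ⟨c, t, hc, hct⟩ := M1.exists_germ_smul_eq C hW hxW a
  have ht : C.presheaf.germ W x hxW t ≠ 0 := fun h0 => by
    obtain ⟨w, hw⟩ := hc
    rw [h0, ← hw, ← Units.smul_def, smul_eq_zero_iff_eq] at hct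
    exact ha hct
  obtain ⟨y, -, -, hwa, -⟩ := exists_weakAss hW hxW t ht
  exact h y hwa

theorem exists_pow_smul_eq_zero {C : X.Modules} {x : X} {m : C.presheaf.stalk x}
    (hm : (annStalk m).radical = IsLocalRing.maximalIdeal (X.presheaf.stalk x)) {z : X.presheaf.stalk x}
    (hz : z ∈ IsLocalRing.maximalIdeal (X.presheaf.stalk x)) : ∃ k : ℕ, z ^ k • m = 0 := by
  rw [← hm] at hz
  obtain ⟨k, hk⟩ := hz
  exact ⟨k, (mem_annStalk _ _).mp hk⟩

theorem stalkAb_map_smul {F G : X.Modules} (φ : F ⟶ G) (x : X) (r : X.presheaf.stalk x) (a : F.presheaf.stalk x) :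
    (M1.stalkAb x).map φ (r • a) = r • (show G.presheaf.stalk x from (M1.stalkAb x).map φ a) :=
  (RefHull.stalkMapₗ φ x).map_smul r a

theorem isWeakAssPoint_of_elem {G : X.Modules} {x : X} (n : G.presheaf.stalk x) (hn : n ≠ 0)
    (h : ∀ z ∈ IsLocalRing.maximalIdeal (X.presheaf.stalk x), ∃ k : ℕ, z ^ k • n = 0) :
    Curv2.IsWeakAssPoint G x := by
  refine ⟨n, le_antisymm ?_ fun z hz => ?_⟩
  · refine (IsLocalRing.maximalIdeal.isMaximal _).isPrime.radical_le_iff.mpr (IsLocalRing.le_maximalIdeal fun h => hn ?_)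
    have h1 : (1 : X.presheaf.stalk x) ∈ annStalk n := (Ideal.eq_top_iff_one _).mp h
    rwa [mem_annStalk, one_smul] at h1
  · obtain ⟨k, hk⟩ := h z hz
    exact ⟨k, (mem_annStalk _ _).mpr hk⟩

/-- A map which is bijective or has a source of depth two at non-associated points is an isomorphism. -/
theorem isIso_of_depth [IsLocallyNoetherian X] {F G : X.Modules} (φ : F ⟶ G) (hF : Coh.IsCoh F) (hG : Coh.IsQCoh G)
    (h : ∀ x : X, Function.Bijective ((M1.stalkAb x).map φ) ∨
      ((2 : ℕ∞) ≤ LocCoh.depth (X.presheaf.stalk x) (F.presheaf.stalk x) ∧ ¬ Curv2.IsWeakAssPoint G x)) :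
    IsIso φ := by
  have hinj : ∀ x : X, Function.Injective ((M1.stalkAb x).map φ) := by
    have hK : Coh.IsCoh (kernel φ) := M1.isCoh_kernel hF hG φ
    haveI := hK.1
    have hK0 : ∀ x, ¬ Curv2.IsWeakAssPoint (kernel φ) x := by
      rintro x ⟨m, hm⟩
      have hm0 := ne_zero_of_radical_ann hm
      let n : F.presheaf.stalk x := (M1.stalkAb x).map (kernel.ι φ) m
      have hι : Function.Injective ((M1.stalkAb x).map (kernel.ι φ)) := M1.mono_iff_stalk _ |>.mp inferInstance x
      have hn0 : n ≠ 0 := fun h0 => hm0 (hι (h0.trans (map_zero _).symm))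
      rcases h x with hb | ⟨hd, -⟩
      · refine hn0 (hb.1 ?_)
        rw [map_zero]
        change (M1.stalkAb x).map φ ((M1.stalkAb x).map (kernel.ι φ) m) = 0
        rw [← M1.stalk_comp_apply, kernel.condition, M1.stalkAb_map_zero]
      · haveI := M1.finite_stalk hF.1 hF.2 x
        haveI : Nontrivial (F.presheaf.stalk x) := ⟨⟨n, 0, hn0⟩⟩
        obtain ⟨r, hr, hreg⟩ := exists_regular_of_one_le_depth (M := F.presheaf.stalk x) (le_trans one_le_two hd)
        obtain ⟨k, hk⟩ := exists_pow_smul_eq_zero hm hr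
        refine hn0 ((hreg.pow k) ?_)
        change r ^ k • n = r ^ k • (0 : F.presheaf.stalk x)
        rw [smul_zero, ← stalkAb_map_smul, hk]
        exact map_zero _
    intro x
    rw [injective_iff_map_eq_zero]
    intro a ha
    obtain ⟨b, hb⟩ := M1.exact_elem (ShortComplex.exact_of_f_is_kernel (ShortComplex.mk (kernel.ι φ) φ (kernel.condition φ)) (kernelIsKernel φ)) x a ha
    rw [subsingleton_stalk_of_no_weakAss hK0 x b] at hb
    exact hb.symm.trans (map_zero _)
  have hC : Coh.IsQCoh (cokernel φ) := M1.isQCoh_cokernel hF.1 hG φ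
  haveI := hC
  have hπ : ∀ x : X, Function.Surjective ((M1.stalkAb x).map (cokernel.π φ)) :=
    (M1.epi_iff_stalk _).mp inferInstance
  have hex := fun (x : X) (a : G.presheaf.stalk x) (ha : (M1.stalkAb x).map (cokernel.π φ) a = 0) =>
    M1.exact_elem (ShortComplex.exact_of_g_is_cokernel (ShortComplex.mk φ (cokernel.π φ) (cokernel.condition φ)) (cokernelIsCokernel φ)) x a ha
  have hC0 : ∀ x, ¬ Curv2.IsWeakAssPoint (cokernel φ) x := by
    rintro x ⟨m, hm⟩
    have hm0 := ne_zero_of_radical_ann hm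
    obtain ⟨g, hgm⟩ := hπ x m
    let L : F.presheaf.stalk x →ₗ[X.presheaf.stalk x] G.presheaf.stalk x := RefHull.stalkMapₗ φ x
    have hzero : ∀ a, (M1.stalkAb x).map (cokernel.π φ) ((M1.stalkAb x).map φ a) = 0 := fun a => by
      rw [← M1.stalk_comp_apply, cokernel.condition, M1.stalkAb_map_zero]
    rcases h x with hb | ⟨hd, hG'⟩
    · obtain ⟨a, rfl⟩ := hb.2 g
      exact hm0 (hgm.symm.trans (hzero a))
    · have hrange : ∀ z ∈ IsLocalRing.maximalIdeal (X.presheaf.stalk x), ∃ k : ℕ, z ^ k • (show G.presheaf.stalk x from g) ∈ LinearMap.range L := by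
        intro z hz
        obtain ⟨k, hk⟩ := exists_pow_smul_eq_zero hm hz
        refine ⟨k, hex x _ ?_⟩
        rw [stalkAb_map_smul, hgm]
        exact hk
      haveI := M1.finite_stalk hF.1 hF.2 x
      rcases subsingleton_or_nontrivial (F.presheaf.stalk x) with hs | hnt
      · have hg0 : (show G.presheaf.stalk x from g) ≠ 0 := fun h0 => hm0 (by rw [← hgm, show g = 0 from h0, map_zero])
        refine hG' (isWeakAssPoint_of_elem _ hg0 fun z hz => ?_)
        obtain ⟨k, a, ha⟩ := hrange z hz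
        exact ⟨k, by rw [← ha, Subsingleton.elim a 0, map_zero]⟩
      · obtain ⟨a, ha⟩ := mem_range_of_depth_two L (hinj x) hd
          (fun n hn => by_contra fun hn0 => hG' (isWeakAssPoint_of_elem n hn0 hn)) g hrange
        exact hm0 (hgm.symm.trans ((congrArg _ ha.symm).trans (hzero a)))
  refine (M1.isIso_iff_stalk φ).mpr fun x => ⟨hinj x, fun g => ?_⟩
  exact hex x g (subsingleton_stalk_of_no_weakAss hC0 x _)

end Groth.Agent.WA
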