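import Groth.Agent.Lib.WeakAss18.Push
import Groth.Prelude.Def_MeroSh

/-!
Meromorphic functions when the structure sheaf has locally finitely many weakly associated points.
-/

universe u

open CategoryTheory Limits AlgebraicGeometry TopologicalSpace Opposite

set_option backward.isDefEq.respectTransparency false

namespace Groth.Agent.WA

variable {X : Scheme.{u}}

/-- The germ of a regular stalk element. -/
theorem regStalk_eq_of_finite (hfin : ∀ U : X.Opens, IsAffineOpen U →
      {y : X | y ∈ U ∧ Curv2.IsWeakAssPoint (Coh.structureModule X) y}.Finite) (x : X) :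
    Mero.regStalk X x = nonZeroDivisors ↑(X.presheaf.stalk x) := by
  classical
  refine le_antisymm (Mero.regStalk_le_nonZeroDivisors x) fun g hg => ?_
  obtain ⟨U, hU, hxU, -⟩ := exists_isAffineOpen_mem_and_subset (U := (⊤ : X.Opens)) (x := x) trivial
  let := TopCat.Presheaf.algebra_section_stalk X.presheaf (⟨x, hxU⟩ : U)
  have := hU.isLocalization_stalk ⟨x, hxU⟩
  obtain ⟨⟨b, c⟩, hbc⟩ := IsLocalization.surj (hU.primeIdealOf ⟨x, hxU⟩).asIdeal.primeCompl g
  have hbc : g * X.presheaf.germ U x hxU c = X.presheaf.germ U x hxU b := hbc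
  have hcu : IsUnit (X.presheaf.germ U x hxU c) := (M1.isUnit_germ_iff hU hxU c).mpr c.2
  have hb : X.presheaf.germ U x hxU b ∈ nonZeroDivisors (X.presheaf.stalk x) := hbc ▸ mul_mem hg hcu.mem_nonZeroDivisors
  let T := {y : X | (y ∈ U ∧ Curv2.IsWeakAssPoint (Coh.structureModule X) y) ∧ y ∉ X.basicOpen b}
  have hT : T.Finite := (hfin U hU).subset fun y hy => hy.1
  let U' : X.Opens := X.basicOpen c.1 ⊓ ⟨(closure T)ᶜ, isClosed_closure.isOpen_compl⟩
  have hU'U : U' ≤ U := inf_le_left.trans (X.basicOpen_le _)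
  have hxU' : x ∈ U' := by
    refine ⟨(X.mem_basicOpen _ x hxU).mpr hcu, fun hcl => ?_⟩
    rw [← Set.biUnion_of_singleton T, hT.closure_biUnion, Set.mem_iUnion₂] at hcl
    obtain ⟨y, hy, hyx⟩ := hcl
    exact hy.2 ((X.mem_basicOpen b y hy.1.1).mpr (isUnit_germ_of_nonZeroDivisors hU hxU hy.1.1
      (specializes_iff_mem_closure.mpr hyx) b hb hy.1.2))
  have hcU : IsUnit (X.presheaf.map (homOfLE hU'U).op c.1) := by
    have h1 := (X.toRingedSpace.isUnit_res_basicOpen c.1).map (X.presheaf.map (homOfLE (inf_le_left : U' ≤ X.basicOpen c.1)).op).hom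
    rw [show X.presheaf.map (homOfLE hU'U).op c.1 = X.presheaf.map (homOfLE (inf_le_left : U' ≤ X.basicOpen c.1)).op
      (X.presheaf.map (homOfLE (X.basicOpen_le c.1)).op c.1) from (M1.ores_ores (X.basicOpen_le c.1) inf_le_left c.1).symm]
    exact h1
  obtain ⟨v, hv⟩ := hcU.exists_left_inv
  refine ⟨U', hxU', v * X.presheaf.map (homOfLE hU'U).op b, fun z => ?_, ?_⟩
  · rw [map_mul, TopCat.Presheaf.germ_res_apply]
    refine mul_mem (IsUnit.mem_nonZeroDivisors ((IsUnit.of_mul_eq_one _ hv).map _)) ?_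
    refine germ_mem_nonZeroDivisors hU (hU'U z.2) b fun y hy hyz hwa => ?_
    by_contra hu
    have hyT : y ∈ T := ⟨⟨hy, hwa⟩, fun h => hu ((X.mem_basicOpen b y hy).mp h)⟩
    exact z.2.2 ((closure_mono (Set.singleton_subset_iff.mpr hyT)) (specializes_iff_mem_closure.mp hyz))
  · have h1 := congrArg (X.presheaf.germ U' x hxU') hv
    rw [map_mul, map_one, TopCat.Presheaf.germ_res_apply] at h1
    rw [map_mul, TopCat.Presheaf.germ_res_apply, ← hbc]
    linear_combination g * h1

variable {U : X.Opens}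

/-- A nonzerodivisor of the functions on an affine open is a regular section. -/
theorem mem_regSub_of_nonZeroDivisors (hU : IsAffineOpen U) {b : Γ(X, U)} (hb : b ∈ nonZeroDivisors Γ(X, U)) :
    b ∈ Mero.regSub X U := by
  rintro ⟨x, hx⟩
  haveI := M1.isQCoh_structureModule X
  let := TopCat.Presheaf.algebra_section_stalk X.presheaf (⟨x, hx⟩ : U)
  have := hU.isLocalization_stalk ⟨x, hx⟩
  exact IsLocalization.map_nonZeroDivisors_le (hU.primeIdealOf ⟨x, hx⟩).asIdeal.primeCompl (X.presheaf.stalk x)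
    (Submonoid.mem_map_of_mem (algebraMap Γ(X, U) (X.presheaf.stalk x)) hb)

theorem toK_injective : Function.Injective (Mero.toK X U) := fun a b h => by
  refine TopCat.Presheaf.section_ext X.sheaf U a b fun x hx => ?_
  exact Mero.algebraMap_KStalk_injective x (congrArg (fun f : Γ(Mero.kmod X, U) => f.1 ⟨x, hx⟩) h)

theorem mk_eq_div {x : X} (a : X.presheaf.stalk x) (s : Mero.regStalk X x) :
    (LocalizedModule.mk a s : Mero.KStalk X x) * algebraMap _ _ (s : X.presheaf.stalk x) =
      algebraMap (X.presheaf.stalk x) (Mero.KStalk X x) a := by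
  change (LocalizedModule.mk a s : Mero.KStalk X x) * LocalizedModule.mk (s : X.presheaf.stalk x) 1 = LocalizedModule.mk a 1
  rw [LocalizedModule.mk_mul_mk, LocalizedModule.mk_eq]
  exact ⟨1, by simp [Submonoid.smul_def, mul_comm]⟩

/-- Meromorphic functions on an affine open form the total ring of fractions. -/
theorem isLocalization_K (hU : IsAffineOpen U)
    (hfin : {y : X | y ∈ U ∧ Curv2.IsWeakAssPoint (Coh.structureModule X) y}.Finite) :
    @IsLocalization Γ(X, U) _ (nonZeroDivisors Γ(X, U)) Γ(Mero.kmod X, U) _ (Mero.toK X U).toAlgebra := by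
  classical
  letI := (Mero.toK X U).toAlgebra
  haveI := M1.isQCoh_structureModule X
  have hreg : ∀ (b : nonZeroDivisors Γ(X, U)) (x : U), X.presheaf.germ U x.1 x.2 b.1 ∈ Mero.regStalk X x.1 :=
    fun b x => Mero.germ_mem_regStalk x (mem_regSub_of_nonZeroDivisors hU b.2)
  refine (isLocalization_iff _ _).mpr ⟨fun b => ?_, fun s => ?_, fun {a a'} h => ⟨1, ?_⟩⟩
  · let inv : Γ(Mero.kmod X, U) := ⟨fun x => LocalizedModule.mk 1 ⟨_, hreg b x⟩, fun x => ⟨U, x.2, 𝟙 _, 1,
      ⟨b.1, mem_regSub_of_nonZeroDivisors hU b.2⟩, fun y => by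
        change LocalizedModule.mk 1 _ = LocalizedModule.mk _ _
        congr 1
        rw [map_one]⟩⟩
    refine IsUnit.of_mul_eq_one (a := Mero.toK X U b.1) inv (Subtype.ext (funext fun x => ?_))
    change (LocalizedModule.mk (X.presheaf.germ U x.1 x.2 b.1) 1 : Mero.KStalk X x.1) * LocalizedModule.mk 1 ⟨_, hreg b x⟩ = 1
    rw [mul_comm]
    exact (mk_eq_div (1 : X.presheaf.stalk x.1) ⟨_, hreg b x⟩).trans (map_one _)
  · -- the ideal of denominators
    let I : Ideal Γ(X, U) :=
      { carrier := {f | ∃ a : Γ(X, U), Mero.toK X U f * s = Mero.toK X U a}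
        add_mem' := by rintro f g ⟨a, ha⟩ ⟨c, hc⟩; exact ⟨a + c, by rw [map_add, map_add, add_mul, ha, hc]⟩
        zero_mem' := ⟨0, by rw [map_zero, zero_mul]⟩
        smul_mem' := by rintro r f ⟨a, ha⟩; exact ⟨r * a, by rw [smul_eq_mul, map_mul, map_mul, mul_assoc, ha]⟩ }
    have hI : ∀ (y : X) (hy : y ∈ U), Curv2.IsWeakAssPoint (Coh.structureModule X) y →
        ∃ f ∈ I, IsUnit (X.presheaf.germ U y hy f) := by
      intro y hy hwa
      obtain ⟨V, hyV, i, a, b, hab⟩ := s.2 ⟨y, hy⟩
      obtain ⟨W, hW, hyW, hWV⟩ := exists_isAffineOpen_mem_and_subset (U := V) hyV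
      -- a basic open of `U` on which the denominator is invertible
      have hbu : IsUnit (X.presheaf.germ V y hyV b.1) := by
        rw [← X.presheaf.germ_res_apply (homOfLE hWV) y hyW b.1]
        refine isUnit_germ_of_nonZeroDivisors hW hyW hyW specializes_rfl _ ?_ hwa
        rw [X.presheaf.germ_res_apply]
        exact b.2 ⟨y, hyV⟩
      obtain ⟨g, hgV, hyg⟩ := hU.exists_basicOpen_le (V := X.basicOpen b.1) ⟨y, (X.mem_basicOpen b.1 y hyV).mpr hbu⟩ hy
      obtain ⟨v, hv⟩ := ((X.toRingedSpace.isUnit_res_basicOpen b.1).map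
        (X.presheaf.map (homOfLE hgV).op).hom).exists_left_inv
      have hgle : X.basicOpen g ≤ V := hgV.trans (X.basicOpen_le _)
      haveI := hU.isLocalization_basicOpen g
      obtain ⟨⟨a', gk⟩, ha'⟩ := IsLocalization.surj (Submonoid.powers g) (v * M1.ores hgle a : Γ(X, X.basicOpen g))
      obtain ⟨k, hk⟩ := gk.2
      let t : Γ(Mero.kmod X, U) := Mero.toK X U gk.1 * s - Mero.toK X U a'
      have ht : ∀ (z : U), z.1 ∈ X.basicOpen g → t.1 z = 0 := by
        intro z hz
        have hzV := hgle hz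
        change (LocalizedModule.mk (X.presheaf.germ U z.1 z.2 gk.1) 1 : Mero.KStalk X z.1) * s.1 z -
          LocalizedModule.mk (X.presheaf.germ U z.1 z.2 a') 1 = 0
        rw [sub_eq_zero, show s.1 z = LocalizedModule.mk (X.presheaf.germ V z.1 hzV a) (Mero.regGerm ⟨z.1, hzV⟩ b) from hab ⟨z.1, hzV⟩,
          LocalizedModule.mk_mul_mk, LocalizedModule.mk_eq]
        refine ⟨1, ?_⟩
        simp only [Submonoid.smul_def, smul_eq_mul, OneMemClass.coe_one, one_mul, Submonoid.coe_mul]
        have h1 := congrArg (X.presheaf.germ (X.basicOpen g) z.1 hz) hv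
        rw [map_mul, map_one] at h1
        erw [TopCat.Presheaf.germ_res_apply, TopCat.Presheaf.germ_res_apply] at h1
        have h2 := congrArg (X.presheaf.germ (X.basicOpen g) z.1 hz) ha'
        rw [map_mul, map_mul, TopCat.Presheaf.germ_res_apply] at h2
        erw [TopCat.Presheaf.germ_res_apply, TopCat.Presheaf.germ_res_apply] at h2
        linear_combination X.presheaf.germ V z.1 hzV b.1 * h2 -
          (X.presheaf.germ U z.1 z.2 gk.1 * X.presheaf.germ V z.1 hzV a) * h1
      have key : ∀ z : U, ∃ (W : X.Opens) (_ : z.1 ∈ W) (hWU : W ≤ U) (n : ℕ), ∀ (w : X) (hw : w ∈ W),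
          (Mero.toK X U (g ^ n) * t).1 ⟨w, hWU hw⟩ = 0 := by
        intro z
        obtain ⟨V', hzV', i', a₁, b₁, hab₁⟩ := t.2 z
        obtain ⟨W, hW, hzW, hWV'⟩ := exists_isAffineOpen_mem_and_subset (U := V') hzV'
        have hWU : W ≤ U := hWV'.trans i'.le
        let g₁ := M1.ores hWU g
        haveI := hW.isLocalization_basicOpen g₁
        have h0 : algebraMap Γ(X, W) Γ(X, X.basicOpen g₁) (M1.ores hWV' a₁) = 0 := by
          refine TopCat.Presheaf.section_ext X.sheaf _ _ 0 fun w hw => ?_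
          have hwW := X.basicOpen_le g₁ hw
          have hwg : w ∈ X.basicOpen g := by
            rw [X.mem_basicOpen g w (hWU hwW), ← X.presheaf.germ_res_apply (homOfLE hWU) w hwW g]
            exact (X.mem_basicOpen g₁ w hwW).mp hw
          have h1 : t.1 ⟨w, hWU hwW⟩ = LocalizedModule.mk (X.presheaf.germ V' w (hWV' hwW) a₁)
            (Mero.regGerm ⟨w, hWV' hwW⟩ b₁) := hab₁ ⟨w, hWV' hwW⟩
          rw [ht _ hwg] at h1
          have h2 := mk_eq_div (X.presheaf.germ V' w (hWV' hwW) a₁) (Mero.regGerm ⟨w, hWV' hwW⟩ b₁)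
          rw [← h1, zero_mul, ← map_zero (algebraMap (X.presheaf.stalk w) (Mero.KStalk X w))] at h2
          change X.presheaf.germ _ w hw (X.presheaf.map _ (X.presheaf.map _ a₁)) = X.presheaf.germ _ w hw 0
          erw [TopCat.Presheaf.germ_res_apply, TopCat.Presheaf.germ_res_apply, map_zero]
          exact (Mero.algebraMap_KStalk_injective w h2).symm
        obtain ⟨⟨_, n, rfl⟩, hn⟩ := (IsLocalization.map_eq_zero_iff (Submonoid.powers g₁) _ _).mp h0
        refine ⟨W, hzW, hWU, n, fun w hw => ?_⟩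
        change (LocalizedModule.mk (X.presheaf.germ U w (hWU hw) (g ^ n)) 1 : Mero.KStalk X w) * t.1 ⟨w, hWU hw⟩ = 0
        rw [show t.1 ⟨w, hWU hw⟩ = LocalizedModule.mk (X.presheaf.germ V' w (hWV' hw) a₁)
            (Mero.regGerm ⟨w, hWV' hw⟩ b₁) from hab₁ ⟨w, hWV' hw⟩, LocalizedModule.mk_mul_mk]
        have h3 := congrArg (X.presheaf.germ W w hw) hn
        rw [map_mul, map_pow, map_zero, X.presheaf.germ_res_apply] at h3
        erw [X.presheaf.germ_res_apply] at h3
        rw [map_pow, h3, LocalizedModule.zero_mk]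
      choose W hzW hWU n hn using key
      obtain ⟨T, hT⟩ := hU.isCompact.elim_finite_subcover (fun z : U => (W z : Set X)) (fun z => (W z).isOpen)
        (fun z hz => Set.mem_iUnion.mpr ⟨⟨z, hz⟩, hzW ⟨z, hz⟩⟩)
      obtain ⟨N, hNdef⟩ : ∃ N, T.sup n = N := ⟨_, rfl⟩
      have hN : Mero.toK X U (g ^ N) * t = 0 := Subtype.ext (funext fun w => by
        obtain ⟨z, hzT, hwz⟩ := Set.mem_iUnion₂.mp (hT w.2)
        obtain ⟨d, hd⟩ := Nat.exists_eq_add_of_le' (hNdef ▸ Finset.le_sup (f := n) hzT : n z ≤ N)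
        rw [hd, pow_add, map_mul, mul_assoc]
        change _ * (Mero.toK X U (g ^ n z) * t).1 w = 0
        rw [show w = ⟨w.1, hWU z hwz⟩ from rfl, hn z w.1 hwz, mul_zero])
      refine ⟨g ^ N * gk.1, ⟨g ^ N * a', ?_⟩, ?_⟩
      · rw [map_mul, map_mul, ← sub_eq_zero, mul_assoc, ← mul_sub]
        exact hN
      · rw [← hk, ← pow_add, map_pow]
        exact ((X.mem_basicOpen g y hy).mp hyg).pow _
    -- avoid the finitely many weakly associated points
    let pr : X → Ideal Γ(X, U) := fun y => if h : y ∈ U then (hU.primeIdealOf ⟨y, h⟩).asIdeal else ⊥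
    have hnot : ¬ ((I : Set Γ(X, U)) ⊆ ⋃ y ∈ (hfin.toFinset : Set X), (pr y : Set Γ(X, U))) := by
      intro hsub
      have hpr : ∀ y ∈ hfin.toFinset, pr y ≠ ⊤ := fun y hy => by
        have hyU : y ∈ U := ((Set.Finite.mem_toFinset hfin).mp hy).1
        simp only [pr, dif_pos hyU]
        exact (hU.primeIdealOf ⟨y, hyU⟩).isPrime.ne_top
      rcases hfin.toFinset.eq_empty_or_nonempty with he | ⟨y₀, hy₀⟩
      · have := hsub (I.zero_mem : (0 : Γ(X, U)) ∈ I)
        simp [he] at this
      obtain ⟨y, hy, hle⟩ := (Ideal.subset_union_prime y₀ y₀ fun y hy _ _ => by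
        simp only [pr, dif_pos ((Set.Finite.mem_toFinset hfin).mp hy).1]; infer_instance).mp hsub
      obtain ⟨hyU, hwa⟩ := (Set.Finite.mem_toFinset hfin).mp hy
      obtain ⟨f, hfI, hfu⟩ := hI y hyU hwa
      have := hle hfI
      simp only [pr, dif_pos hyU] at this
      exact (M1.isUnit_germ_iff hU hyU f).mp hfu this
    obtain ⟨f, hfI, hf⟩ := Set.not_subset.mp hnot
    obtain ⟨a, ha⟩ := hfI
    have hfn : f ∈ nonZeroDivisors Γ(X, U) := by
      rw [mem_nonZeroDivisors_iff_right]
      intro c hc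
      refine TopCat.Presheaf.section_ext X.sheaf U c 0 fun x hx => ?_
      have h1 := germ_mem_nonZeroDivisors hU hx f fun y hy _ hwa => by
        refine (M1.isUnit_germ_iff hU hy f).mpr fun hfy => hf (Set.mem_iUnion₂.mpr ⟨y, (Set.Finite.mem_toFinset hfin).mpr ⟨hy, hwa⟩, ?_⟩)
        simp only [pr, dif_pos hy]; exact hfy
      change X.presheaf.germ U x hx c = X.presheaf.germ U x hx 0
      rw [map_zero]
      refine mem_nonZeroDivisors_iff_right.mp h1 _ ?_
      rw [← map_mul, hc, map_zero]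
    exact ⟨⟨a, ⟨f, hfn⟩⟩, (mul_comm _ _).trans ha⟩
  · exact congrArg _ (toK_injective h)

end Groth.Agent.WA
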