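import Groth.Agent.Lib.WeakAss18.Push
import Groth.Agent.Lib.TensorMod.Tilde
import Groth.Prelude.Def_FlatCA

/-!
Weakly associated points of the sheaf attached to a module.
-/

universe u

open CategoryTheory Limits AlgebraicGeometry TopologicalSpace Opposite

set_option backward.isDefEq.respectTransparency false

namespace Groth.Agent.WA

variable {A : CommRingCat.{u}} (M : ModuleCat.{u} A) (p : Spec A)

theorem isUnit_germ_spec_iff (a : A) :
    IsUnit ((Spec A).presheaf.germ ⊤ p trivial ((Scheme.ΓSpecIso A).inv a)) ↔ a ∉ p.asIdeal := by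
  rw [← (Spec A).mem_basicOpen ((Scheme.ΓSpecIso A).inv a) p trivial, basicOpen_eq_of_affine]
  rfl

/-- Annihilation of germs of global sections of the tilde of a module. -/
theorem germ_smul_eq_zero_iff (a : A) (m : M) :
    (tilde M).presheaf.germ ⊤ p trivial ((Scheme.ΓSpecIso A).inv a • M2.gsec M m) = 0 ↔
      ∃ c ∉ p.asIdeal, c • a • m = 0 := by
  haveI : Coh.IsQCoh (tilde M) := inferInstance
  have hlin : ∀ (r : A) (n : M), (Scheme.ΓSpecIso A).inv r • M2.gsec M n = M2.gsec M (r • n) :=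
    fun r n => (M2.gsec_smul M r n).symm
  have hbij : Function.Bijective (M2.gsec M) := ConcreteCategory.bijective_of_isIso (tilde.toOpen M ⊤)
  have hzero : M2.gsec M 0 = 0 := map_zero (tilde.toOpen M ⊤).hom
  constructor
  · intro h
    obtain ⟨r, hr, hr0⟩ := M1.exists_smul_eq_zero_of_germ_eq_zero (tilde M) (isAffineOpen_top (Spec A)) (x := p) trivial _ h
    obtain ⟨c, rfl⟩ : ∃ c, (Scheme.ΓSpecIso A).inv c = r := ⟨(Scheme.ΓSpecIso A).hom r, by simp⟩
    refine ⟨c, (isUnit_germ_spec_iff p c).mp hr, hbij.1 ?_⟩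
    rw [hzero, ← hlin, ← hlin, hr0]
  · rintro ⟨c, hc, hc0⟩
    refine germ_zero_of_smul (F := tilde M) (U := (⊤ : (Spec A).Opens)) (x := p) trivial _ _ ((isUnit_germ_spec_iff p c).mpr hc) ?_
    rw [hlin, hlin, hc0, hzero]

/-- A weakly associated point comes from an element of the module. -/
theorem exists_of_isWeakAssPoint (h : Curv2.IsWeakAssPoint (tilde M) p) :
    ∃ m : M, (∀ c ∉ p.asIdeal, c • m ≠ 0) ∧ ∀ a ∈ p.asIdeal, ∃ (k : ℕ), ∃ c ∉ p.asIdeal, c • a ^ k • m = 0 := by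
  obtain ⟨n, hn⟩ := h
  obtain ⟨r, t, hr, hrt⟩ := M1.exists_germ_smul_eq (tilde M) (isAffineOpen_top (Spec A)) (x := p) trivial n
  obtain ⟨m, rfl⟩ := (ConcreteCategory.bijective_of_isIso (tilde.toOpen M ⊤)).2 t
  change _ = (tilde M).presheaf.germ ⊤ p trivial (M2.gsec M m) at hrt
  refine ⟨m, fun c hc h0 => ?_, fun a ha => ?_⟩
  · have h1 := (germ_smul_eq_zero_iff M p 1 m).mpr ⟨c, hc, by rwa [one_smul]⟩
    rw [map_one, one_smul] at h1
    obtain ⟨w, hw⟩ := hr
    rw [h1, ← hw, ← Units.smul_def, smul_eq_zero_iff_eq] at hrt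
    exact ne_zero_of_radical_ann hn hrt
  · have hmem : (Spec A).presheaf.germ ⊤ p trivial ((Scheme.ΓSpecIso A).inv a) ∈ (annStalk n).radical := by
      rw [hn]; exact (IsLocalRing.mem_maximalIdeal _).mpr fun h => (isUnit_germ_spec_iff p a).mp h ha
    obtain ⟨k, hk⟩ := hmem
    rw [mem_annStalk] at hk
    refine ⟨k, (germ_smul_eq_zero_iff M p (a ^ k) m).mp ?_⟩
    rw [M1.germ_smul, ← hrt, map_pow, map_pow, smul_comm, hk, smul_zero]

/-- An element of the module makes the point weakly associated. -/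
theorem isWeakAssPoint_of_elem' (m : M) (hne : ∀ c ∉ p.asIdeal, c • m ≠ 0)
    (hp : ∀ a ∈ p.asIdeal, ∃ (k : ℕ), ∃ c ∉ p.asIdeal, c • a ^ k • m = 0) : Curv2.IsWeakAssPoint (tilde M) p := by
  refine isWeakAssPoint_of_section (isAffineOpen_top (Spec A)) (x := p) trivial (M2.gsec M m) (fun h0 => ?_) fun b hb => ?_
  · obtain ⟨c, hc, hc0⟩ := (germ_smul_eq_zero_iff M p 1 m).mp (by rw [map_one, one_smul]; exact h0)
    rw [one_smul] at hc0
    exact hne c hc hc0
  · obtain ⟨a, rfl⟩ : ∃ c, (Scheme.ΓSpecIso A).inv c = b := ⟨(Scheme.ΓSpecIso A).hom b, by simp⟩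
    obtain ⟨k, hk⟩ := hp a (not_not.mp fun h => hb ((isUnit_germ_spec_iff p a).mpr h))
    refine ⟨k, ?_⟩
    rw [← map_pow]
    exact (germ_smul_eq_zero_iff M p (a ^ k) m).mpr hk

end Groth.Agent.WA
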